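import Cfsg.Agent.Lib.CIT.Structure
import Cfsg.Agent.Lib.CIT.Outcome
import Cfsg.Agent.Lib.Frobenius.Kernel
import Cfsg.Agent.Lib.Solvable.CN
import Cfsg.Agent.S1477
import Cfsg.Agent.S0885
import Cfsg.Agent.S0205

/-!
Simple groups with nilpotent centralisers have involution centralisers of two-power order.
-/

set_option autoImplicit false
set_option linter.unusedSectionVars false
set_option linter.style.haveILetI false

namespace CfsgLib.CITUse

open Subgroup Cfsg
open CfsgLib.Involutions (orderOf_conj mul_self_eq_one_of_orderOf)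

universe u

variable {G : Type u} [Group G] [Finite G] [IsSimpleGroup G]

theorem not_normal_nilpotent (hG : ∃ a b : G, a * b ≠ b * a) {N : Subgroup G} [N.Normal]
    (hN : Group.IsNilpotent N) : N = ⊥ := by
  refine ((inferInstance : N.Normal).eq_bot_or_eq_top).resolve_right fun h => ?_
  subst h
  haveI := hN
  haveI : Group.IsNilpotent G := Group.nilpotent_of_mulEquiv (Subgroup.topEquiv : (⊤ : Subgroup G) ≃* G)
  haveI : Nontrivial G := IsSimpleGroup.toNontrivial
  have hne := CfsgLib.inf_center_ne_bot_of_nilpotent (G := G) (N := ⊤) bot_lt_top.ne'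
  rw [top_inf_eq] at hne
  have hc : center G = ⊤ := ((inferInstance : (center G).Normal).eq_bot_or_eq_top).resolve_left hne
  obtain ⟨a, b, hab⟩ := hG
  exact hab (mem_center_iff.mp (show b ∈ center G from hc ▸ mem_top b) a)

/-- A maximal nilpotent subgroup of order divisible by two and by an odd prime cannot occur. -/
theorem no_mixed_nilpotent (hG : ∃ a b : G, a * b ≠ b * a) (M : Subgroup G) (hM : Group.IsNilpotent M)
    (hcop : (Nat.card M).Coprime M.index)
    (hti : ∀ g : G, M.map (MulAut.conj g).toMonoidHom ≠ M → M ⊓ M.map (MulAut.conj g).toMonoidHom = ⊥)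
    (hcent : ∀ x ∈ M, x ≠ 1 → centralizer ({x} : Set G) ≤ M) (h2 : 2 ∣ Nat.card M)
    {p : ℕ} (hp : p.Prime) (hp2 : p ≠ 2) (hpM : p ∣ Nat.card M) : False := by
  classical
  haveI : Fact (Nat.Prime 2) := ⟨Nat.prime_two⟩
  -- normaliser from a single element
  have key : ∀ {y g : G}, y ∈ M → y ≠ 1 → g * y * g⁻¹ ∈ M → g ∈ normalizer (M : Set G) := by
    intro y g hy hy1 hgy
    by_contra hg
    have hne : M.map (MulAut.conj g).toMonoidHom ≠ M := fun e => hg (Subgroup.mem_normalizer_iff.mpr fun x =>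
      ⟨fun hx => e ▸ ⟨x, hx, rfl⟩, fun hx => by
        rw [← e] at hx
        obtain ⟨z, hz, ez⟩ := hx
        exact (MulAut.conj g).injective ez ▸ hz⟩)
    have hm : g * y * g⁻¹ ∈ M ⊓ M.map (MulAut.conj g).toMonoidHom := Subgroup.mem_inf.mpr ⟨hgy, ⟨y, hy, rfl⟩⟩
    rw [hti g hne, Subgroup.mem_bot] at hm
    exact hy1 (by rw [show y = g⁻¹ * (g * y * g⁻¹) * g by group, hm]; group)
  -- the Sylow 2-subgroup
  obtain ⟨R⟩ : Nonempty (Sylow 2 M) := inferInstance
  have hR2 : IsPGroup 2 ((R : Subgroup M).map M.subtype) := R.2.map _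
  obtain ⟨T, hTle⟩ := hR2.exists_le_sylow
  have hTM : (T : Subgroup G) ≤ M := by
    have hcR : Nat.card ((R : Subgroup M).map M.subtype) = 2 ^ (Nat.card M).factorization 2 := by
      rw [Subgroup.card_map_of_injective M.subtype_injective, R.card_eq_multiplicity]
    have hfac : (Nat.card G).factorization 2 = (Nat.card M).factorization 2 := by
      rw [← M.card_mul_index, Nat.factorization_mul Nat.card_pos.ne' M.index_ne_zero_of_finite,
        Finsupp.add_apply, Nat.factorization_eq_zero_of_not_dvd (n := M.index) (fun h => ?_), add_zero]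
      exact Nat.not_coprime_of_dvd_of_dvd (by norm_num) h2 h hcop
    have heq := Subgroup.eq_of_le_of_card_ge hTle (by rw [hcR, T.card_eq_multiplicity, hfac])
    exact heq ▸ Subgroup.map_subtype_le _
  have hTn : ((T.subtype hTM : Sylow 2 M) : Subgroup M).Normal :=
    (Group.isNilpotent_of_finite_tfae (G := M)).out 0 3 rfl rfl |>.mp hM 2 inferInstance _
  have huniq : ∀ x ∈ M, ∀ k : ℕ, x ^ 2 ^ k = 1 → x ∈ T := by
    intro x hx k hk
    have hpg : IsPGroup 2 ↥(zpowers (⟨x, hx⟩ : M)) := by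
      obtain ⟨j, -, hj⟩ := (Nat.dvd_prime_pow Nat.prime_two).mp
        (orderOf_dvd_of_pow_eq_one (x := (⟨x, hx⟩ : M)) (Subtype.ext hk))
      exact IsPGroup.of_card (n := j) (by rw [Nat.card_zpowers, hj])
    obtain ⟨S, hS⟩ := hpg.exists_le_sylow
    haveI := Sylow.unique_of_normal _ hTn
    rw [Subsingleton.elim S (T.subtype hTM)] at hS
    exact hS (mem_zpowers _)
  -- an involution central in `M`
  obtain ⟨z, hzT, hzo, hzc⟩ : ∃ z ∈ T, orderOf z = 2 ∧ ∀ x ∈ M, x * z = z * x := by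
    haveI := hTn
    haveI := hM
    have hne : ((T.subtype hTM : Sylow 2 M) : Subgroup M) ≠ ⊥ :=
      Sylow.ne_bot_of_dvd_card _ h2
    have hI := CfsgLib.inf_center_ne_bot_of_nilpotent (G := M) (N := ((T.subtype hTM : Sylow 2 M) : Subgroup M)) hne
    have hI2 : IsPGroup 2 (((T.subtype hTM : Sylow 2 M) : Subgroup M) ⊓ center M : Subgroup M) :=
      (T.subtype hTM).2.to_le inf_le_left
    obtain ⟨w, hw, hwo⟩ := CIT.exists_orderOf_two_mem hI2 hI
    exact ⟨(w : G), (Subgroup.mem_inf.mp hw).1, by rw [Subgroup.orderOf_coe, hwo],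
      fun x hx => congrArg Subtype.val (mem_center_iff.mp (Subgroup.mem_inf.mp hw).2 ⟨x, hx⟩)⟩
  have hz1 : z ≠ 1 := fun e => by rw [e, orderOf_one] at hzo; omega
  set N := normalizer ((T : Subgroup G) : Set G) with hN
  have hNM : ∀ n ∈ N, n ∈ normalizer (M : Set G) := fun n hn =>
    key (hTM hzT) hz1 (hTM ((Subgroup.mem_normalizer_iff.mp hn z).mp hzT))
  have hMN : M ≤ N := fun m hm => Subgroup.mem_normalizer_iff.mpr fun x => ⟨fun hx => by
      exact hTn.conj_mem ⟨x, hTM hx⟩ hx ⟨m, hm⟩, fun hx => by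
      have h' : m⁻¹ * (m * x * m⁻¹) * m⁻¹⁻¹ ∈ T := hTn.conj_mem ⟨m * x * m⁻¹, hTM hx⟩ hx ⟨m, hm⟩⁻¹
      rwa [show m⁻¹ * (m * x * m⁻¹) * m⁻¹⁻¹ = x by group] at h'⟩
  have hNM' : ∀ n ∈ normalizer (M : Set G), n ∈ N := by
    intro g hg
    have hle : (T : Subgroup G).map (MulAut.conj g).toMonoidHom ≤ (T : Subgroup G) := by
      rintro _ ⟨x, hx, rfl⟩
      obtain ⟨k, hk⟩ := T.2 ⟨x, hx⟩
      refine huniq _ ((Subgroup.mem_normalizer_iff.mp hg x).mp (hTM hx)) k ?_
      show (g * x * g⁻¹) ^ 2 ^ k = 1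
      rw [conj_pow, show x ^ 2 ^ k = 1 from congrArg Subtype.val hk]
      group
    have heq := Subgroup.eq_of_le_of_card_ge hle
      (by rw [Subgroup.card_map_of_injective (f := (MulAut.conj g).toMonoidHom) (MulAut.conj g).injective])
    refine Subgroup.mem_normalizer_iff.mpr fun x => ⟨fun hx => hle ⟨x, hx, rfl⟩, fun hx => ?_⟩
    rw [← SetLike.mem_coe, ← heq] at hx
    obtain ⟨y, hy, e⟩ := hx
    exact (MulAut.conj g).injective e ▸ hy
  have hNtop : N ≠ ⊤ := fun e => by
    haveI : (T : Subgroup G).Normal := Subgroup.normalizer_eq_top_iff.mp e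
    have := not_normal_nilpotent hG (N := (T : Subgroup G)) T.2.isNilpotent
    exact hz1 (Subgroup.mem_bot.mp (this ▸ hzT))
  -- two involutions
  obtain ⟨z', hz'T, hz'o, hzz'⟩ : ∃ s ∈ T, orderOf s = 2 ∧ z ≠ s := by
    by_contra hcon
    push Not at hcon
    have hNeq : N = M := le_antisymm (fun n hn => hcent z (hTM hzT) hz1 (mem_centralizer_singleton_iff.mpr (by
      have e := hcon _ ((Subgroup.mem_normalizer_iff.mp hn z).mp hzT) (by rw [orderOf_conj, hzo])
      exact (eq_mul_inv_iff_mul_eq.mp e).symm))) hMN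
    have hFC : Cfsg.IsFrobeniusComplement M := by
      refine ⟨fun e => hz1 ?_, hNeq ▸ hNtop, fun g hg => ?_⟩
      · rw [← Subgroup.mem_bot, ← e]
        exact hTM hzT
      rw [Subgroup.eq_bot_iff_forall]
      rintro x ⟨hx, hx'⟩
      obtain ⟨y, hy, rfl⟩ := hx'
      by_contra h1
      have h1' : g * y * g⁻¹ ≠ 1 := h1
      refine hg ?_
      rw [← hNeq]
      exact hNM' _ (key hy (fun e => h1' (by rw [e]; group)) hx)
    obtain ⟨K, -, hKn, hKc, hKnil⟩ := CfsgLib.Frob.exists_nilpotent_kernel hFC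
    haveI := hKn
    rw [not_normal_nilpotent hG hKnil, Subgroup.isComplement'_bot_left] at hKc
    exact hNtop (hNeq.trans hKc)
  have hse : Cfsg.IsStronglyEmbedded N := by
    refine ⟨hNtop, even_iff_two_dvd.mpr (hzo ▸ Subgroup.orderOf_dvd_natCard N (Subgroup.le_normalizer hzT)),
      fun g hg => ?_⟩
    rw [← Nat.not_even_iff_odd]
    intro he
    obtain ⟨⟨a, ha⟩, hao⟩ := exists_prime_orderOf_dvd_card'
      (G := ↥(N ⊓ N.map (MulAut.conj g).toMonoidHom)) 2 he.two_dvd
    rw [Subgroup.orderOf_mk] at hao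
    obtain ⟨ha1, b, hb, eab⟩ := ha
    have e : g * b * g⁻¹ = a := eab
    have hbo : orderOf b = 2 := by rw [← hao, ← e, orderOf_conj]
    exact hg (hNM' _ (key (hTM (CentTI.inv_mem_T hb hbo)) (fun e' => by rw [e', orderOf_one] at hbo; omega)
      (e ▸ hTM (CentTI.inv_mem_T ha1 hao))))
  have hallc : ∀ s ∈ T, orderOf s = 2 → ∀ x ∈ M, x * s = s * x := by
    intro s hs hso x hx
    obtain ⟨n, hn, hns⟩ := CIT.conj_of_stronglyEmbedded hse (Subgroup.le_normalizer hzT) hzo
      (Subgroup.le_normalizer hs) hso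
    have hx' : n⁻¹ * x * n ∈ M := by
      have := (Subgroup.mem_normalizer_iff.mp (inv_mem (hNM n hn)) x).mp hx
      rwa [inv_inv] at this
    rw [← hns]
    calc x * (n * z * n⁻¹) = n * ((n⁻¹ * x * n) * z) * n⁻¹ := by group
      _ = n * (z * (n⁻¹ * x * n)) * n⁻¹ := by rw [hzc _ hx']
      _ = _ := by group
  have hA : CentTI.Aa T = M := by
    refine le_antisymm (fun x hx => hcent z (hTM hzT) hz1 (mem_centralizer_singleton_iff.mpr
      (CentTI.mem_A_iff.mp hx z hzT hzo).symm)) fun x hx => CentTI.mem_A_iff.mpr fun s hs hso => (hallc s hs hso x hx).symm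
  have hH : CentTI.Hyp T := by
    refine ⟨⟨z, hzT, z', hz'T, hzo, hz'o, hzz'⟩, hA ▸ hTM, hA ▸ hMN, fun s hs hso x hx => ?_, fun b hb hb1 x hx => ?_,
      fun b hb g hg hgb => ?_, hse⟩
    · rw [hA]
      exact hcent s (hTM hs) (fun e => by rw [e, orderOf_one] at hso; omega) (mem_centralizer_singleton_iff.mpr hx)
    · rw [hA] at hb
      exact hMN (hcent b hb hb1 (mem_centralizer_singleton_iff.mpr hx))
    · rw [hA] at hb hgb
      by_contra hb1
      refine hg (hNM' _ (key (y := g⁻¹ * b * g) hgb (fun e => hb1 ?_) ?_))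
      · rw [show b = g * (g⁻¹ * b * g) * g⁻¹ by group, e]; group
      · rw [show g * (g⁻¹ * b * g) * g⁻¹ = b by group]; exact hb
  haveI := Fintype.ofFinite G
  haveI := Fintype.ofFinite (G ⧸ CentTI.Nn T)
  obtain ⟨P, hPH, hPE, hEo⟩ := CentTI.exists_datum hH
  have hPM : P.H = M := hPH.trans hA
  rcases Cfsg.Agent.S0885.result P.isZ P.hab (Nat.card P.H) (Nat.card P.E) P.card.symm rfl hEo P.H P.le P.card P.fix
    with h | ⟨h, -, -⟩
  · -- the involutions of `T` are too few
    rw [hPM, hPE] at h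
    have he : CentTI.ee T + 1 ≤ Nat.card (T : Subgroup G) := by
      show Nat.card {t : G // orderOf t = 2 ∧ t ∈ CentTI.Nn T} + 1 ≤ _
      rw [← Finite.card_option]
      refine Nat.card_le_card_of_injective (fun o : Option {t : G // orderOf t = 2 ∧ t ∈ CentTI.Nn T} =>
        o.elim (1 : (T : Subgroup G)) fun t => ⟨t.1, CentTI.inv_mem_T t.2.2 t.2.1⟩) ?_
      rintro (_ | ⟨a, ha⟩) (_ | ⟨b, hb⟩) e
      · rfl
      · have e' : (1 : G) = b := congrArg Subtype.val e
        have := hb.1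
        rw [← e', orderOf_one] at this
        omega
      · have e' : a = (1 : G) := congrArg Subtype.val e
        have := ha.1
        rw [e', orderOf_one] at this
        omega
      · have e' : a = b := congrArg Subtype.val e
        subst e'
        rfl
    obtain ⟨c, hc⟩ := Subgroup.card_dvd_of_le hTM
    have hc3 : 3 ≤ c := by
      have hcp : p ∣ c := by
        rcases hp.dvd_mul.mp (hc ▸ hpM) with h' | h'
        · obtain ⟨k, hk⟩ := IsPGroup.iff_card.mp T.2
          rw [hk] at h'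
          exact absurd ((Nat.prime_dvd_prime_iff_eq hp Nat.prime_two).mp (hp.dvd_of_dvd_pow h')) hp2
        · exact h'
      have : 1 ≤ c := Nat.pos_of_ne_zero fun e => by
        rw [e, mul_zero] at hc
        exact Nat.card_pos.ne' hc
      have := Nat.le_of_dvd (by omega) hcp
      have := hp.two_le
      omega
    have : Nat.card (T : Subgroup G) * 3 ≤ Nat.card M := hc ▸ Nat.mul_le_mul_left _ hc3
    omega
  · rw [hPM] at h
    obtain ⟨k, hk⟩ := IsPGroup.iff_card.mp h
    rw [hk] at hpM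
    exact hp2 ((Nat.prime_dvd_prime_iff_eq hp Nat.prime_two).mp (hp.dvd_of_dvd_pow hpM))

/-- Simple non-abelian groups with nilpotent centralisers are CIT-groups. -/
theorem cn_cit (hG : ∃ a b : G, a * b ≠ b * a) (hCN : Cfsg.IsCNGroup G) : CIT.IsCIT G := by
  classical
  haveI : Fact (Nat.Prime 2) := ⟨Nat.prime_two⟩
  intro t ht
  by_contra hne
  obtain ⟨M, hle, hM⟩ := Finite.exists_le_maximal (p := fun L : Subgroup G => Group.IsNilpotent L)
    (hCN t fun e => by rw [e, orderOf_one] at ht; omega)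
  obtain ⟨p, hp, hpc, hp2⟩ : ∃ p : ℕ, p.Prime ∧ p ∣ Nat.card (centralizer ({t} : Set G)) ∧ p ≠ 2 := by
    by_contra hcon
    push Not at hcon
    exact hne (IsPGroup.of_card (Nat.eq_prime_pow_of_unique_prime_dvd Nat.card_pos.ne' fun {d} hd hdd => hcon d hd hdd))
  have h2 : 2 ∣ Nat.card M := ht ▸ Subgroup.orderOf_dvd_natCard M (hle (mem_centralizer_singleton_iff.mpr rfl))
  have hpM : p ∣ Nat.card M := hpc.trans (Subgroup.card_dvd_of_le hle)
  obtain ⟨hcop, hti, hcent⟩ := Cfsg.Agent.S1477.result hCN M hM.1 fun L hL hML => le_antisymm (hM.2 hL hML) hML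
  have hnpp : ¬ IsPrimePow (Nat.card M) := fun h => by
    obtain ⟨q, hq, h'⟩ := isPrimePow_iff_unique_prime_dvd.mp h
    exact hp2 ((h' p ⟨hp, hpM⟩).trans (h' 2 ⟨Nat.prime_two, h2⟩).symm)
  have hti' := hti hnpp (fun e => by rw [e] at h2; omega)
  exact no_mixed_nilpotent hG M hM.1 hcop hti' (hcent hti') h2 hp hp2 hpM

end CfsgLib.CITUse
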