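import Cfsg.Agent.Lib.CIT.Outcome

/-!
From the classification data to the lists of groups.
-/

set_option autoImplicit false

namespace CfsgLib.CITUse

open CfsgLib.CIT

universe u

/-- The list of the simple groups with involution centralisers of two-power order. -/
def CITList (G : Type u) [Group G] : Prop :=
    (∃ (F : Type) (_ : Field F) (_ : Fintype F),
        (Fintype.card F = 9 ∨ (∃ n : ℕ, Fintype.card F = 2 ^ n) ∨
          ((Fintype.card F).Prime ∧ ∃ k : ℕ, Fintype.card F = 2 ^ k + 1 ∨ Fintype.card F + 1 = 2 ^ k)) ∧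
        Nonempty (G ≃* Matrix.ProjectiveSpecialLinearGroup (Fin 2) F)) ∨
    (∃ (F : Type) (_ : Field F) (_ : Fintype F), Fintype.card F = 4 ∧
        Nonempty (G ≃* Matrix.ProjectiveSpecialLinearGroup (Fin 3) F)) ∨
    Cfsg.IsSuzuki G

theorem list_of_outcome {G : Type u} [Group G] [IsSimpleGroup G] (h : Outcome G) : CITList G := by
  rcases h with ⟨-, ⟨F, iF, iFt, n, -, hc, he⟩ | hS⟩ | ⟨F, iF, iFt, hc, he⟩ | h34
  · exact Or.inl ⟨F, iF, iFt, Or.inr (Or.inl ⟨n, hc⟩), he⟩
  · exact Or.inr (Or.inr hS.isSuzuki)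
  · exact Or.inl ⟨F, iF, iFt, hc.imp id (fun h => Or.inr ⟨h.2.1, h.2.2⟩), he⟩
  · exact Or.inr (Or.inl h34)

end CfsgLib.CITUse
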