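import Cfsg.Agent.Lib.CIT.Outcome
import Cfsg.Agent.Lib.SuzukiUnique.CIT
import Cfsg.Agent.Lib.Suzuki.Semisimple
import Cfsg.Agent.Lib.Suzuki.Lie
import Cfsg.Agent.Lib.PSL2Spectrum
import Cfsg.Agent.Lib.SLCard
import Cfsg.Agent.Lib.SmallSimple.Order360

/-!
Simple groups all of whose elements have prime power order, from the list of the simple CIT groups.
-/

set_option autoImplicit false
set_option linter.style.haveILetI false

namespace CfsgLib.CITUse

open Subgroup Matrix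

universe u

/-- A prime power divisible by three is a power of three. -/
theorem three_pow_of_isPrimePow {k : ℕ} (hk : IsPrimePow k) (h : 3 ∣ k) : ∃ a : ℕ, k = 3 ^ a := by
  obtain ⟨p, a, hp, -, rfl⟩ := (isPrimePow_nat_iff k).mp hk
  exact ⟨a, by rw [(Nat.prime_dvd_prime_iff_eq Nat.prime_three hp).mp (Nat.prime_three.dvd_of_dvd_pow h)]⟩

theorem two_pow_mod_three (n : ℕ) : (Even n → 2 ^ n % 3 = 1) ∧ (Odd n → 2 ^ n % 3 = 2) := by
  constructor
  · rintro ⟨k, rfl⟩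
    rw [← two_mul, pow_mul, Nat.pow_mod]
    norm_num
  · rintro ⟨k, rfl⟩
    rw [pow_succ, pow_mul, Nat.mul_mod, Nat.pow_mod]
    norm_num

theorem two_pow_eq_three_pow_succ {n a : ℕ} (hn : 1 ≤ n) (h : 2 ^ n = 3 ^ a + 1) : n ≤ 2 := by
  rcases Nat.even_or_odd n with ⟨k, rfl⟩ | ho
  · have hk : 1 ≤ k := by omega
    obtain ⟨d, hd⟩ : ∃ d, 2 ^ k = d + 1 := ⟨2 ^ k - 1, by have := Nat.one_le_two_pow (n := k); omega⟩
    have h1 : d * (d + 2) = 3 ^ a := by
      rw [pow_add, hd] at h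
      nlinarith
    obtain ⟨i, -, hi⟩ := (Nat.dvd_prime_pow Nat.prime_three).mp (Dvd.intro _ h1 : d ∣ 3 ^ a)
    obtain ⟨j, -, hj⟩ := (Nat.dvd_prime_pow Nat.prime_three).mp (Dvd.intro_left _ h1 : d + 2 ∣ 3 ^ a)
    rcases Nat.eq_zero_or_pos i with rfl | hi0
    · rw [pow_zero] at hi
      subst hi
      have : k ≤ 1 := by
        by_contra hc
        have := Nat.pow_le_pow_right (show 1 ≤ 2 by norm_num) (show 2 ≤ k by omega)
        omega
      omega
    · rcases Nat.eq_zero_or_pos j with rfl | hj0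
      · rw [pow_zero] at hj; omega
      · have e1 : 3 ∣ d := hi ▸ dvd_pow_self 3 hi0.ne'
        have e2 : 3 ∣ d + 2 := hj ▸ dvd_pow_self 3 hj0.ne'
        omega
  · rcases Nat.eq_zero_or_pos a with rfl | ha
    · by_contra hc
      have := Nat.pow_le_pow_right (show 1 ≤ 2 by norm_num) (show 3 ≤ n by omega)
      omega
    · have := (two_pow_mod_three n).2 ho
      have : 3 ∣ 3 ^ a := dvd_pow_self 3 ha.ne'
      omega

theorem two_pow_succ_eq_three_pow {n a : ℕ} (h : 2 ^ n + 1 = 3 ^ a) : n = 1 ∨ n = 3 := by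
  rcases Nat.even_or_odd a with ⟨b, rfl⟩ | ⟨b, rfl⟩
  · obtain ⟨d, hd⟩ : ∃ d, 3 ^ b = d + 1 := ⟨3 ^ b - 1, by have := Nat.one_le_pow b 3 (by norm_num); omega⟩
    have h1 : d * (d + 2) = 2 ^ n := by
      rw [pow_add, hd] at h
      nlinarith
    obtain ⟨i, -, hi⟩ := (Nat.dvd_prime_pow Nat.prime_two).mp (Dvd.intro _ h1 : d ∣ 2 ^ n)
    obtain ⟨j, -, hj⟩ := (Nat.dvd_prime_pow Nat.prime_two).mp (Dvd.intro_left _ h1 : d + 2 ∣ 2 ^ n)
    have hi2 : i ≤ 1 := by
      by_contra hc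
      have e1 : 2 ^ 2 ∣ d := hi ▸ pow_dvd_pow 2 (by omega : 2 ≤ i)
      have hj2 : 2 ≤ j := by
        by_contra hc'
        have := Nat.pow_le_pow_right (show 1 ≤ 2 by norm_num) (show j ≤ 1 by omega)
        have := Nat.pow_le_pow_right (show 1 ≤ 2 by norm_num) (show 2 ≤ i by omega)
        omega
      have e2 : 2 ^ 2 ∣ d + 2 := hj ▸ pow_dvd_pow 2 hj2
      omega
    interval_cases i
    · have e2 : d + 2 = 3 := by omega
      have : j ≠ 0 := by rintro rfl; omega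
      have e3 : 2 ∣ d + 2 := hj ▸ dvd_pow_self 2 this
      omega
    · have e2 : d = 2 := by omega
      subst e2
      have hn : 2 ^ n = 2 ^ 3 := by omega
      exact Or.inr (Nat.pow_right_injective le_rfl hn)
  · rcases Nat.lt_or_ge n 2 with hn | hn
    · rcases Nat.eq_zero_or_pos n with rfl | h0
      · have : 3 ∣ 3 ^ (2 * b + 1) := dvd_pow_self 3 (by omega)
        generalize 3 ^ (2 * b + 1) = M at *
        simp at h
        omega
      · omega
    · exfalso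
      have h4 : 2 ^ 2 ∣ 2 ^ n := pow_dvd_pow 2 hn
      have : 3 ^ (2 * b + 1) % 4 = 3 := by
        rw [pow_succ, pow_mul, Nat.mul_mod, Nat.pow_mod]
        norm_num
      generalize 3 ^ (2 * b + 1) = M at *
      generalize 2 ^ n = N at *
      omega

/-- The even-field parameters. -/
theorem lin_arith {n : ℕ} (hn : 2 ≤ n) (h1 : IsPrimePow (2 ^ n - 1)) (h2 : IsPrimePow (2 ^ n + 1)) :
    n = 2 ∨ n = 3 := by
  have hpos := Nat.one_le_two_pow (n := n)
  rcases Nat.even_or_odd n with he | ho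
  · obtain ⟨a, ha⟩ := three_pow_of_isPrimePow h1 (by have := (two_pow_mod_three n).1 he; omega)
    have := two_pow_eq_three_pow_succ (n := n) (a := a) (by omega) (by omega)
    omega
  · obtain ⟨a, ha⟩ := three_pow_of_isPrimePow h2 (by have := (two_pow_mod_three n).2 ho; omega)
    have := two_pow_succ_eq_three_pow ha
    omega

/-- The Fermat and Mersenne parameters. -/
theorem odd_arith {q k : ℕ} (hq : 7 ≤ q) (hp : q.Prime) (hk : q = 2 ^ k + 1 ∨ q + 1 = 2 ^ k)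
    (h1 : IsPrimePow ((q - 1) / 2)) (h2 : IsPrimePow ((q + 1) / 2)) : q = 7 ∨ q = 17 := by
  have hk3 : 3 ≤ k := by
    by_contra hc
    have := Nat.pow_le_pow_right (show 1 ≤ 2 by norm_num) (show k ≤ 2 by omega)
    omega
  obtain ⟨j, rfl⟩ : ∃ j, k = j + 1 := ⟨k - 1, by omega⟩
  have hp3 : ¬ 3 ∣ q := fun h => by
    have := (Nat.prime_dvd_prime_iff_eq Nat.prime_three hp).mp h
    omega
  have hpow : 2 ^ (j + 1) = 2 * 2 ^ j := by rw [pow_succ, mul_comm]
  rcases hk with hk | hk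
  · rcases Nat.even_or_odd j with he | ho
    · exact absurd (by have := (two_pow_mod_three j).1 he; omega) hp3
    · obtain ⟨a, ha⟩ := three_pow_of_isPrimePow h2 (by have := (two_pow_mod_three j).2 ho; omega)
      rcases two_pow_succ_eq_three_pow (n := j) (a := a) (by omega) with rfl | rfl
      · omega
      · right; norm_num at hk; omega
  · rcases Nat.even_or_odd j with he | ho
    · obtain ⟨a, ha⟩ := three_pow_of_isPrimePow h1 (by have := (two_pow_mod_three j).1 he; omega)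
      have hj := two_pow_eq_three_pow_succ (n := j) (a := a) (by omega) (by omega)
      have : j = 2 := by omega
      subst this
      left; norm_num at hk; omega
    · exact absurd (by have := (two_pow_mod_three j).2 ho; omega) hp3

theorem four_pow_succ_dvd {n b : ℕ} (hn : Odd n) (h : 5 ^ b ∣ 4 ^ n + 1) : 5 ^ b ≤ 5 * n := by
  haveI : Fact (Nat.Prime 5) := ⟨by norm_num⟩
  have h1 := padicValNat.pow_add_pow (p := 5) (x := 4) (y := 1) (by decide) (by norm_num) (by norm_num) hn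
  rw [one_pow] at h1
  have h2 : b ≤ padicValNat 5 (4 ^ n + 1) := (padicValNat_dvd_iff_le (p := 5) (Nat.succ_ne_zero (4 ^ n))).mp h
  rw [h1, show (4 : ℕ) + 1 = 5 from rfl, padicValNat_self] at h2
  have h3 : 5 ^ (b - 1) ∣ n :=
    (pow_dvd_pow 5 (by omega : b - 1 ≤ padicValNat 5 n)).trans pow_padicValNat_dvd
  have h4 := Nat.le_of_dvd hn.pos h3
  calc 5 ^ b ≤ 5 ^ (b - 1 + 1) := Nat.pow_le_pow_right (by norm_num) (by omega)
    _ ≤ 5 * n := by rw [pow_succ']; omega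

/-- The Suzuki parameters. -/
theorem suz_arith {m : ℕ} (hm : 1 ≤ m) (h1 : IsPrimePow (2 ^ (2 * m + 1) + 2 ^ (m + 1) + 1))
    (h2 : IsPrimePow (2 ^ (2 * m + 1) - 2 ^ (m + 1) + 1)) : m = 1 ∨ m = 2 := by
  by_contra hc
  have hm3 : 3 ≤ m := by omega
  have hle : 2 ^ (m + 1) ≤ 2 ^ (2 * m) := Nat.pow_le_pow_right (by norm_num) (by omega)
  have hq : 2 ^ (2 * m + 1) = 2 * 2 ^ (2 * m) := by rw [pow_succ']
  have hprod : (2 ^ (2 * m + 1) + 2 ^ (m + 1) + 1) * (2 ^ (2 * m + 1) - 2 ^ (m + 1) + 1) =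
      4 ^ (2 * m + 1) + 1 := by
    obtain ⟨d, hd⟩ : ∃ d, 2 ^ (2 * m + 1) = 2 ^ (m + 1) + d := ⟨_, (Nat.add_sub_cancel' (by omega)).symm⟩
    have hsq : 2 ^ (m + 1) * 2 ^ (m + 1) = 2 * 2 ^ (2 * m + 1) := by rw [← pow_succ', ← pow_add]; ring_nf
    have h4 : (4 : ℕ) ^ (2 * m + 1) = 2 ^ (2 * m + 1) * 2 ^ (2 * m + 1) := by rw [← mul_pow]; norm_num
    rw [h4, hd, Nat.add_sub_cancel_left]
    rw [hd] at hsq
    nlinarith
  have h5 : 5 ∣ (2 ^ (2 * m + 1) + 2 ^ (m + 1) + 1) * (2 ^ (2 * m + 1) - 2 ^ (m + 1) + 1) := by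
    rw [hprod]
    exact ⟨(4 ^ (2 * m + 1) + 1) / 5, (Nat.mul_div_cancel' (by
      rw [Nat.dvd_iff_mod_eq_zero, pow_succ, pow_mul, Nat.add_mod, Nat.mul_mod, Nat.pow_mod]
      norm_num)).symm⟩
  have hgrow : ∀ i, 5 * (2 * (i + 3) + 1) < 2 ^ (2 * (i + 3)) := by
    intro i
    induction i with
    | zero => norm_num
    | succ i ih => rw [show 2 * (i + 1 + 3) = 2 * (i + 3) + 2 by ring, pow_add]; omega
  have hg := hgrow (m - 3)
  rw [Nat.sub_add_cancel hm3] at hg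
  have key : ∀ k, IsPrimePow k → 5 ∣ k → k ∣ 4 ^ (2 * m + 1) + 1 → k ≤ 5 * (2 * m + 1) := by
    intro k hk h5k hkd
    obtain ⟨p, b, hp, -, rfl⟩ := (isPrimePow_nat_iff k).mp hk
    obtain rfl := (Nat.prime_dvd_prime_iff_eq (by norm_num) hp).mp ((by norm_num : Nat.Prime 5).dvd_of_dvd_pow h5k)
    exact four_pow_succ_dvd ⟨m, rfl⟩ hkd
  have k1 := key _ h1
  have k2 := key _ h2
  generalize 2 ^ (2 * m + 1) = Q at *
  generalize 2 ^ (m + 1) = R at *
  generalize 2 ^ (2 * m) = X at *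
  rcases (by norm_num : Nat.Prime 5).dvd_mul.mp h5 with h | h
  · have := k1 h (hprod ▸ Dvd.intro _ rfl)
    omega
  · have := k2 h (hprod ▸ Dvd.intro_left _ rfl)
    omega

section

variable {G : Type u} [Group G]

theorem eppo_cit [Finite G] (h : ∀ g : G, g ≠ 1 → IsPrimePow (orderOf g)) : CIT.IsCIT G := by
  haveI : Fact (Nat.Prime 2) := ⟨Nat.prime_two⟩
  intro t ht
  rw [IsPGroup.iff_orderOf]
  rintro ⟨x, hx⟩
  rw [orderOf_mk]
  by_cases h1 : x = 1
  · exact ⟨0, by rw [h1, orderOf_one, pow_zero]⟩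
  obtain ⟨p, a, hp, ha, he⟩ := (isPrimePow_nat_iff _).mp (h x h1)
  rcases eq_or_ne p 2 with rfl | hp2
  · exact ⟨a, he.symm⟩
  exfalso
  have hc : Commute t x := (mem_centralizer_singleton_iff.mp hx).symm
  have hcop : (orderOf t).Coprime (orderOf x) := by
    rw [ht, ← he]
    exact Nat.Coprime.pow_right _ ((Nat.coprime_primes Nat.prime_two hp).mpr hp2.symm)
  have ho := hc.orderOf_mul_eq_mul_orderOf_of_coprime hcop
  have hne : t * x ≠ 1 := fun e => by
    rw [e, orderOf_one, ht] at ho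
    omega
  obtain ⟨r, b, hr, hb, hrb⟩ := (isPrimePow_nat_iff _).mp (h _ hne)
  rw [ho, ht, ← he] at hrb
  have e1 := (Nat.prime_dvd_prime_iff_eq Nat.prime_two hr).mp
    (Nat.prime_two.dvd_of_dvd_pow (hrb ▸ Dvd.intro _ rfl : 2 ∣ r ^ b))
  have e2 := (Nat.prime_dvd_prime_iff_eq hp hr).mp
    (hp.dvd_of_dvd_pow (hrb ▸ (dvd_pow_self p ha.ne').mul_left 2 : p ∣ r ^ b))
  omega

/-- An element order of a group in question is a prime power. -/
theorem prime_pow_of_order {H : Type*} [Group H] (e : G ≃* H) (h : ∀ g : G, g ≠ 1 → IsPrimePow (orderOf g))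
    {k : ℕ} (hk : 1 < k) (hx : ∃ x : H, orderOf x = k) : IsPrimePow k := by
  obtain ⟨x, hx⟩ := hx
  have hne : e.symm x ≠ 1 := fun e1 => by
    have := congrArg orderOf e1
    rw [MulEquiv.orderOf_eq, hx, orderOf_one] at this
    omega
  have := h _ hne
  rwa [MulEquiv.orderOf_eq, hx] at this

theorem psl_nine_alt {F : Type} [Field F] [Fintype F] (hc : Fintype.card F = 9) [IsSimpleGroup G] [Finite G]
    (e : G ≃* Matrix.ProjectiveSpecialLinearGroup (Fin 2) F) : Nonempty (G ≃* alternatingGroup (Fin 6)) := by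
  have h1 := SLCard.gcd_mul_card_PSL (F := F) (n := 2) (by norm_num)
  rw [SLCard.card_SL_two, hc, ← Nat.card_congr e.toEquiv] at h1
  norm_num at h1
  exact Order360.iso_A6 (by omega)

theorem eppo_list [Finite G] [IsSimpleGroup G] (hG : ∃ a b : G, a * b ≠ b * a)
    (h : ∀ g : G, g ≠ 1 → IsPrimePow (orderOf g)) (hout : CIT.Outcome G) :
    Nonempty (G ≃* alternatingGroup (Fin 6)) ∨
    (∃ (F : Type) (_ : Field F) (_ : Fintype F), Fintype.card F ∈ ({4, 7, 8, 17} : Finset ℕ) ∧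
      Nonempty (G ≃* Matrix.ProjectiveSpecialLinearGroup (Fin 2) F)) ∨
    (∃ (F : Type) (_ : Field F) (_ : Fintype F), Fintype.card F = 4 ∧
      Nonempty (G ≃* Matrix.ProjectiveSpecialLinearGroup (Fin 3) F)) ∨
    (∃ (F : Type) (_ : Field F) (_ : Fintype F),
      (Fintype.card F = 8 ∧ Nonempty (G ≃* ↥(Cfsg.Lie.Sz F 4))) ∨
      (Fintype.card F = 32 ∧ Nonempty (G ≃* ↥(Cfsg.Lie.Sz F 8)))) := by
  classical
  rcases hout with ⟨hTI, ⟨F, iF, iFt, n, hn, hc, ⟨e⟩⟩ | hS⟩ | ⟨F, iF, iFt, hc, ⟨e⟩⟩ | h34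
  · haveI := Fact.mk Nat.prime_two
    haveI : CharP F 2 := charP_of_card_eq_prime_pow (p := 2) (f := n) hc
    have hq : 4 ≤ 2 ^ n := Nat.pow_le_pow_right (show 1 ≤ 2 by norm_num) hn
    have hd : Nat.gcd 2 (Fintype.card F - 1) = 1 := by
      refine (Nat.prime_two.coprime_iff_not_dvd.mpr ?_ : Nat.Coprime 2 _)
      have : 2 ∣ 2 ^ n := dvd_pow_self 2 (by omega)
      omega
    have hord := fun k => (PSL2Spectrum.psl_orders (F := F) 2 k).mpr
    rw [hd, Nat.div_one, Nat.div_one, hc] at hord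
    have := lin_arith hn (prime_pow_of_order e h (by omega) (hord _ (Or.inl dvd_rfl)))
      (prime_pow_of_order e h (by omega) (hord _ (Or.inr (Or.inl dvd_rfl))))
    refine Or.inr (Or.inl ⟨F, iF, iFt, ?_, ⟨e⟩⟩)
    rcases this with rfl | rfl <;> rw [hc] <;> decide
  · obtain ⟨F, iF, iFt, m, hm, hF, -, ⟨e⟩⟩ :=
      SuzukiUnique.exists_equiv_of_suzType hG (eppo_cit h) hTI hS
    have e' := e.trans (Suzuki.lieEquiv hF hm).symm
    obtain ⟨Ap, Am, iAp, cAp, -, -, iAm, cAm, -⟩ := Suzuki.classify hF hm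
    have hp : ∀ k, 1 < k → (∃ x : ↥(Cfsg.Sz F m), orderOf x = k) → IsPrimePow k :=
      fun k => prime_pow_of_order e' h
    have hord : ∀ A : Subgroup ↥(Cfsg.Sz F m), IsCyclic A → ∃ x : ↥(Cfsg.Sz F m), orderOf x = Nat.card A := by
      intro A hA
      obtain ⟨a, ha⟩ := IsCyclic.exists_ofOrder_eq_natCard (α := A)
      exact ⟨a, by rw [Subgroup.orderOf_coe, ha]⟩
    have h1 := (Suzuki.torusOrder_props hF hm (Or.inr (Or.inl rfl))).2.1
    have h2 := (Suzuki.torusOrder_props hF hm (Or.inr (Or.inr rfl))).2.1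
    rcases suz_arith hm (cAp ▸ hp _ (by omega) (hord Ap iAp)) (cAm ▸ hp _ (by omega) (hord Am iAm)) with rfl | rfl
    · refine Or.inr (Or.inr (Or.inr ⟨F, iF, iFt, Or.inl ⟨by rw [hF]; norm_num, ?_⟩⟩))
      exact ⟨e⟩
    · refine Or.inr (Or.inr (Or.inr ⟨F, iF, iFt, Or.inr ⟨by rw [hF]; norm_num, ?_⟩⟩))
      exact ⟨e⟩
  · rcases hc with hc | ⟨h7, hp, k, hk⟩
    · exact Or.inl (psl_nine_alt hc e)
    haveI := Fact.mk hp
    haveI : CharP F (Fintype.card F) := charP_of_card_eq_prime_pow (f := 1) (by rw [pow_one])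
    have ho : Odd (Fintype.card F) := hp.odd_of_ne_two (by omega)
    have hd : Nat.gcd 2 (Fintype.card F - 1) = 2 := by
      obtain ⟨j, hj⟩ := ho
      exact Nat.gcd_eq_left ⟨j, by omega⟩
    have hord := fun k => (PSL2Spectrum.psl_orders (F := F) (Fintype.card F) k).mpr
    rw [hd] at hord
    have := odd_arith h7 hp hk (prime_pow_of_order e h (by omega) (hord _ (Or.inl dvd_rfl)))
      (prime_pow_of_order e h (by omega) (hord _ (Or.inr (Or.inl dvd_rfl))))
    refine Or.inr (Or.inl ⟨F, iF, iFt, ?_, ⟨e⟩⟩)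
    rcases this with hh | hh <;> rw [hh] <;> decide
  · exact Or.inr (Or.inr (Or.inl h34))

end

end CfsgLib.CITUse
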